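import Mathlib.NumberTheory.Bernoulli
import Mathlib.RingTheory.PowerSeries.WellKnown
import Mathlib.RingTheory.PowerSeries.Inverse
import Mathlib.Tactic

universe u

open PowerSeries Finset

namespace Groth.Agent.MBailly

/-- The first four coefficients of a rational power series. -/
def HasLow (f : PowerSeries ℚ) (a₀ a₁ a₂ a₃ : ℚ) : Prop :=
  coeff 0 f = a₀ ∧ coeff 1 f = a₁ ∧ coeff 2 f = a₂ ∧ coeff 3 f = a₃

theorem coeff_mul_low (f g : PowerSeries ℚ) :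
    coeff 0 (f * g) = coeff 0 f * coeff 0 g ∧
    coeff 1 (f * g) = coeff 0 f * coeff 1 g + coeff 1 f * coeff 0 g ∧
    coeff 2 (f * g) = coeff 0 f * coeff 2 g + coeff 1 f * coeff 1 g + coeff 2 f * coeff 0 g ∧
    coeff 3 (f * g) = coeff 0 f * coeff 3 g + coeff 1 f * coeff 2 g + coeff 2 f * coeff 1 g +
      coeff 3 f * coeff 0 g := by
  simp [coeff_mul, Finset.Nat.sum_antidiagonal_succ, add_assoc]

theorem HasLow.mul {f g : PowerSeries ℚ} {a₀ a₁ a₂ a₃ b₀ b₁ b₂ b₃ : ℚ}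
    (hf : HasLow f a₀ a₁ a₂ a₃) (hg : HasLow g b₀ b₁ b₂ b₃) :
    HasLow (f * g) (a₀ * b₀) (a₀ * b₁ + a₁ * b₀) (a₀ * b₂ + a₁ * b₁ + a₂ * b₀)
      (a₀ * b₃ + a₁ * b₂ + a₂ * b₁ + a₃ * b₀) := by
  obtain ⟨f0, f1, f2, f3⟩ := hf
  obtain ⟨g0, g1, g2, g3⟩ := hg
  obtain ⟨h0, h1, h2, h3⟩ := coeff_mul_low f g
  rw [f0, f1, f2, f3, g0, g1, g2, g3] at *
  exact ⟨h0, h1, h2, h3⟩

theorem hasLow_bernoulli' (c : ℚ) :
    HasLow (rescale c (bernoulli'PowerSeries ℚ)) 1 (c / 2) (c ^ 2 / 12) 0 := by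
  simp only [HasLow, coeff_rescale, bernoulli'PowerSeries, coeff_mk]
  refine ⟨?_, ?_, ?_, ?_⟩ <;>
    simp [bernoulli'_zero, bernoulli'_one, bernoulli'_two, bernoulli'_three,
      Nat.factorial_succ] <;> ring

theorem hasLow_exp (c : ℚ) : HasLow (rescale c (exp ℚ)) 1 c (c ^ 2 / 2) (c ^ 3 / 6) := by
  simp only [HasLow, coeff_rescale, coeff_exp]
  refine ⟨?_, ?_, ?_, ?_⟩ <;> simp [Nat.factorial_succ] <;> ring

theorem hasLow_bernoulli'_inv (c : ℚ) :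
    HasLow (rescale c (bernoulli'PowerSeries ℚ))⁻¹ 1 (-c / 2) (c ^ 2 / 6) (-c ^ 3 / 24) := by
  obtain ⟨f0, f1, f2, f3⟩ := hasLow_bernoulli' c
  have hne : constantCoeff (rescale c (bernoulli'PowerSeries ℚ)) ≠ 0 := by
    rw [← coeff_zero_eq_constantCoeff_apply, f0]
    exact one_ne_zero
  have h := PowerSeries.inv_mul_cancel _ hne
  obtain ⟨h0, h1, h2, h3⟩ :=
    coeff_mul_low (rescale c (bernoulli'PowerSeries ℚ))⁻¹ (rescale c (bernoulli'PowerSeries ℚ))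
  rw [h, f0, f1, f2, f3] at *
  simp only [coeff_one, if_true, OfNat.ofNat_ne_zero, one_ne_zero, if_false, mul_one] at h0 h1 h2 h3
  unfold HasLow
  generalize coeff 0 (rescale c (bernoulli'PowerSeries ℚ))⁻¹ = i0 at *
  generalize coeff 1 (rescale c (bernoulli'PowerSeries ℚ))⁻¹ = i1 at *
  generalize coeff 2 (rescale c (bernoulli'PowerSeries ℚ))⁻¹ = i2 at *
  generalize coeff 3 (rescale c (bernoulli'PowerSeries ℚ))⁻¹ = i3 at *
  subst h0
  have e1 : i1 = -c / 2 := by linarith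
  subst e1
  have e2 : i2 = c ^ 2 / 6 := by linarith
  subst e2
  exact ⟨rfl, rfl, rfl, by linarith⟩

theorem hasLow_bernoulli'_pow_two :
    HasLow (bernoulli'PowerSeries ℚ ^ 2) 1 1 (5 / 12) (1 / 12) := by
  have h := hasLow_bernoulli' 1
  rw [rescale_one, RingHom.id_apply] at h
  have := h.mul h
  rw [← sq] at this
  norm_num at this ⊢
  exact this

theorem hasLow_bernoulli'_pow_four :
    HasLow (bernoulli'PowerSeries ℚ ^ 4) 1 2 (11 / 6) 1 := by
  have := hasLow_bernoulli'_pow_two.mul hasLow_bernoulli'_pow_two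
  rw [← pow_add] at this
  norm_num at this ⊢
  exact this

end Groth.Agent.MBailly
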