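import Groth.Agent.MBailly.Coeff
import Mathlib.NumberTheory.ZetaValues

open PowerSeries Finset

namespace Groth.Agent.MBailly

local notation "B" => bernoulli'PowerSeries ℚ

theorem rescale_neg_bernoulli'_mul_exp (a : ℚ) :
    rescale (-a) B * rescale a (exp ℚ) = rescale a B := by
  have h1 : rescale (-1 : ℚ) B * exp ℚ = B := by
    have h := congrArg (rescale (-1 : ℚ)) (bernoulli'PowerSeries_mul_exp_sub_one ℚ)
    rw [map_mul, map_sub, map_one, map_mul, rescale_neg_one_X] at h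
    have he : exp ℚ * rescale (-1 : ℚ) (exp ℚ) = 1 := exp_mul_exp_neg_eq_one
    have hne : exp ℚ - 1 ≠ 0 := fun hz => by
      have := congrArg (coeff 1) hz
      simp [coeff_exp] at this
    refine mul_right_cancel₀ hne ?_
    rw [bernoulli'PowerSeries_mul_exp_sub_one]
    linear_combination (-(exp ℚ) * exp ℚ) * h +
      (rescale (-1 : ℚ) B * exp ℚ + X * exp ℚ) * he
  conv_rhs => rw [← h1, map_mul, rescale_rescale, neg_one_mul]

/-- The `p`-independent factor of the Todd integrand. -/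
noncomputable def G (n d : ℕ) (s : ℤ) : PowerSeries ℚ :=
  (rescale (-(d : ℚ)) B)⁻¹ * B ^ (n + 1) * rescale ((s : ℚ) - d - n - 1) (exp ℚ)

theorem integrand_eq (n d p : ℕ) (s : ℤ) :
    (rescale (-(d : ℚ)) B)⁻¹ * rescale (-((d : ℚ) * p)) B * B ^ (n + 1) *
      rescale ((d : ℚ) * p - d - n - 1 + s) (exp ℚ) =
      rescale ((d : ℚ) * p) B * G n d s := by
  rw [← rescale_neg_bernoulli'_mul_exp ((d : ℚ) * p), G,
    show (d : ℚ) * p - d - n - 1 + s = (d : ℚ) * p + ((s : ℚ) - d - n - 1) by ring,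
    ← exp_mul_exp_eq_exp_add]
  ring

theorem hasLow_one : HasLow (1 : PowerSeries ℚ) 1 0 0 0 := by
  simp [HasLow, coeff_one]

theorem G_zero (n d : ℕ) (s : ℤ) : coeff 0 (G n d s) = 1 ∧
    coeff 1 (G n d s) = (2 * (s : ℚ) - d - n - 1) / 2 := by
  have hp : ∀ k : ℕ, coeff 0 (B ^ k) = 1 ∧ coeff 1 (B ^ k) = (k : ℚ) / 2 := fun k => by
    have h := hasLow_bernoulli' 1
    rw [rescale_one, RingHom.id_apply] at h
    induction k with
    | zero => simp [coeff_one]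
    | succ k ih =>
      obtain ⟨h0, h1, -, -⟩ := coeff_mul_low (B ^ k) B
      rw [pow_succ, h0, h1, ih.1, ih.2, h.1, h.2.1]
      push_cast
      constructor <;> ring
  obtain ⟨a0, a1, -, -⟩ := hasLow_bernoulli'_inv (-(d : ℚ))
  obtain ⟨e0, e1, -, -⟩ := hasLow_exp ((s : ℚ) - d - n - 1)
  obtain ⟨b0, b1, -, -⟩ := coeff_mul_low (rescale (-(d : ℚ)) B)⁻¹ (B ^ (n + 1))
  obtain ⟨c0, c1, -, -⟩ := coeff_mul_low ((rescale (-(d : ℚ)) B)⁻¹ * B ^ (n + 1))
    (rescale ((s : ℚ) - d - n - 1) (exp ℚ))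
  rw [G, c0, c1, b0, b1, a0, a1, e0, e1, (hp _).1, (hp _).2]
  push_cast
  constructor <;> ring

/-- The lower part of the coefficient, as a polynomial in `p`. -/
noncomputable def lowPoly (m d : ℕ) (s : ℤ) : Polynomial ℚ :=
  ∑ i ∈ range (m + 1), Polynomial.C ((d : ℚ) ^ i * (bernoulli' i / (Nat.factorial i : ℚ)) *
    coeff (m + 2 - i) (G (m + 2) d s)) * Polynomial.X ^ i

theorem lowPoly_natDegree (m d : ℕ) (s : ℤ) : (lowPoly m d s).natDegree ≤ m :=
  Polynomial.natDegree_sum_le_of_forall_le _ _ fun i hi =>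
    (Polynomial.natDegree_C_mul_X_pow_le _ i).trans (by simp only [mem_range] at hi; omega)

theorem coeff_integrand (m d p : ℕ) (s : ℤ) :
    coeff (m + 2) ((rescale (-(d : ℚ)) B)⁻¹ * rescale (-((d : ℚ) * p)) B *
      B ^ (m + 2 + 1) * rescale ((d : ℚ) * p - d - (m + 2 : ℕ) - 1 + s) (exp ℚ)) =
      bernoulli' (m + 2) * ((d : ℚ) * p) ^ (m + 2) / (Nat.factorial (m + 2) : ℚ) +
        (2 * (s : ℚ) - d - (m + 2 : ℕ) - 1) / 2 * bernoulli' (m + 1) * ((d : ℚ) * p) ^ (m + 1) /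
          (Nat.factorial (m + 1) : ℚ) +
        (lowPoly m d s).eval (p : ℚ) := by
  rw [integrand_eq, coeff_mul, Finset.Nat.sum_antidiagonal_eq_sum_range_succ
    (fun i j => coeff i (rescale ((d : ℚ) * p) B) * coeff j (G (m + 2) d s)),
    sum_range_succ, sum_range_succ]
  obtain ⟨h0, h1⟩ := G_zero (m + 2) d s
  rw [Nat.sub_self, show m + 2 - (m + 1) = 1 by omega, h0, h1, lowPoly,
    Polynomial.eval_finsetSum]
  simp only [coeff_rescale, bernoulli'PowerSeries, coeff_mk, Polynomial.eval_mul,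
    Polynomial.eval_C, Polynomial.eval_pow, Polynomial.eval_X, eq_ratCast, Rat.cast_id]
  rw [add_comm (∑ x ∈ range (m + 1), _), add_assoc, add_comm]
  rw [add_assoc]
  have : ∀ x : ℕ, ((d : ℚ) * p) ^ x * (bernoulli' x / (Nat.factorial x : ℚ)) *
      coeff (m + 2 - x) (G (m + 2) d s) = (d : ℚ) ^ x * (bernoulli' x / (Nat.factorial x : ℚ)) *
        coeff (m + 2 - x) (G (m + 2) d s) * (p : ℚ) ^ x := fun x => by rw [mul_pow]; ring
  simp only [this]
  ring

theorem bernoulli'_sign {k : ℕ} (hk : k ≠ 0) :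
    0 < (-1 : ℚ) ^ (k + 1) * bernoulli' (2 * k) := by
  have h := hasSum_zeta_nat hk
  have hpos : (0 : ℝ) < (-1 : ℝ) ^ (k + 1) * (2 : ℝ) ^ (2 * k - 1) * Real.pi ^ (2 * k) *
      bernoulli (2 * k) / (Nat.factorial (2 * k) : ℝ) := by
    have h1 : (1 : ℝ) / ((1 : ℕ) : ℝ) ^ (2 * k) ≤ _ :=
      le_hasSum h 1 fun j _ => by positivity
    simp only [Nat.cast_one, one_pow, div_one] at h1
    linarith
  rw [bernoulli_eq_bernoulli'_of_ne_one (by omega)] at hpos
  have hq : (0 : ℝ) < (((-1 : ℚ) ^ (k + 1) * bernoulli' (2 * k) : ℚ) : ℝ) := by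
    push_cast
    have hfac : (0 : ℝ) < (2 : ℝ) ^ (2 * k - 1) * Real.pi ^ (2 * k) /
        (Nat.factorial (2 * k) : ℝ) := by positivity
    refine pos_of_mul_pos_left ?_ hfac.le
    calc (0 : ℝ) < _ := hpos
      _ = _ := by ring
  exact_mod_cast hq

theorem eventually_neg (A : ℚ) (hA : A < 0) (P : Polynomial ℚ) (j : ℕ) (hP : P.natDegree ≤ j) :
    ∃ N : ℕ, ∀ p : ℕ, N ≤ p → A * (p : ℚ) ^ (j + 1) + P.eval (p : ℚ) < 0 := by
  set S : ℚ := ∑ i ∈ range (j + 1), |P.coeff i| with hS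
  obtain ⟨N, hN⟩ := exists_nat_gt (S / -A)
  refine ⟨N + 1, fun p hp => ?_⟩
  have hp1 : (1 : ℚ) ≤ p := by exact_mod_cast (Nat.le_add_left 1 N).trans hp
  have hle : P.eval (p : ℚ) ≤ S * (p : ℚ) ^ j := by
    rw [Polynomial.eval_eq_sum_range' (Nat.lt_succ_of_le hP), hS, sum_mul]
    refine sum_le_sum fun i hi => ?_
    have hij : i ≤ j := by simp only [mem_range] at hi; omega
    exact (mul_le_mul_of_nonneg_right (le_abs_self _) (by positivity)).trans
      (mul_le_mul_of_nonneg_left (pow_le_pow_right₀ hp1 hij) (abs_nonneg _))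
  have hlt : S / -A < (p : ℚ) :=
    hN.trans_le (by exact_mod_cast (Nat.le_succ N).trans hp)
  rw [div_lt_iff₀ (by linarith)] at hlt
  have hpj : (0 : ℚ) < (p : ℚ) ^ j := by positivity
  have : (A * p + S) * (p : ℚ) ^ j < 0 := mul_neg_of_neg_of_pos (by linarith) hpj
  calc A * (p : ℚ) ^ (j + 1) + P.eval (p : ℚ) ≤ A * (p : ℚ) ^ (j + 1) + S * (p : ℚ) ^ j := by
        linarith
    _ = (A * p + S) * (p : ℚ) ^ j := by ring
    _ < 0 := this

theorem eventually_coeff_neg (m d : ℕ) (s : ℤ) (hd : 1 ≤ d)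
    (h : bernoulli' (m + 2) < 0 ∨ (bernoulli' (m + 2) = 0 ∧
      (2 * (s : ℚ) - d - (m + 2 : ℕ) - 1) * bernoulli' (m + 1) < 0)) :
    ∃ P : ℕ, ∀ p : ℕ, P ≤ p →
      coeff (m + 2) ((rescale (-(d : ℚ)) B)⁻¹ * rescale (-((d : ℚ) * p)) B *
        B ^ (m + 2 + 1) * rescale ((d : ℚ) * p - d - (m + 2 : ℕ) - 1 + s) (exp ℚ)) < 0 := by
  have hd' : (0 : ℚ) < d := by exact_mod_cast hd
  set c : ℚ := (2 * (s : ℚ) - d - (m + 2 : ℕ) - 1) / 2 * bernoulli' (m + 1) * (d : ℚ) ^ (m + 1) /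
    (Nat.factorial (m + 1) : ℚ) with hc
  rcases h with h | ⟨h, h'⟩
  · obtain ⟨N, hN⟩ := eventually_neg (bernoulli' (m + 2) * (d : ℚ) ^ (m + 2) /
      (Nat.factorial (m + 2) : ℚ))
      (div_neg_of_neg_of_pos (mul_neg_of_neg_of_pos h (by positivity)) (by positivity))
      (Polynomial.C c * Polynomial.X ^ (m + 1) + lowPoly m d s) (m + 1)
      ((Polynomial.natDegree_add_le _ _).trans (max_le (Polynomial.natDegree_C_mul_X_pow_le _ _)
        ((lowPoly_natDegree m d s).trans (Nat.le_succ m))))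
    refine ⟨N, fun p hp => ?_⟩
    rw [coeff_integrand]
    refine lt_of_eq_of_lt ?_ (hN p hp)
    rw [hc]
    simp only [Polynomial.eval_add, Polynomial.eval_mul, Polynomial.eval_C, Polynomial.eval_pow,
      Polynomial.eval_X, mul_pow]
    ring
  · have hcn : c < 0 := by
      rw [hc]
      refine div_neg_of_neg_of_pos (mul_neg_of_neg_of_pos ?_ (by positivity)) (by positivity)
      rw [div_mul_eq_mul_div]
      exact div_neg_of_neg_of_pos h' (by norm_num)
    obtain ⟨N, hN⟩ := eventually_neg c hcn (lowPoly m d s) m (lowPoly_natDegree m d s)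
    refine ⟨N, fun p hp => ?_⟩
    rw [coeff_integrand, h]
    refine lt_of_eq_of_lt ?_ (hN p hp)
    rw [hc]
    simp only [mul_pow]
    ring

end Groth.Agent.MBailly
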